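import Cfsg.Agent.Hls.Mod
import Cfsg.Agent.Chev.ToralT
import Cfsg.Agent.Solv.PGroupBasic
import Cfsg.Agent.Rank2.GoodLift
import Cfsg.Agent.Trans.CentralTransfer
import Cfsg.Agent.Known.GL2Card
import Cfsg.Agent.S0262

/-!
# Fixed spaces: minimal covers of `SL₂(p)`
-/

set_option autoImplicit false
set_option linter.unusedSectionVars false

namespace Cfsg.Lib.Hls

open Subgroup

universe v

variable {p : ℕ} [hp : Fact p.Prime]

theorem cyc_SL {r : ℕ} [hr : Fact r.Prime] (h2 : r ≠ 2) {P : Subgroup (SLp p)}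
    (hP : IsPGroup r P) : IsCyclic P := by
  by_cases h : r = p
  · subst h
    obtain ⟨n, hn⟩ := IsPGroup.iff_card.mp hP
    have h1 := card_subgroup_dvd_card P
    rw [Known.GL2.card_SL_two, ZMod.card, hn, mul_assoc] at h1
    have h3 := hp.out.one_lt
    have hc : (r ^ n).Coprime ((r - 1) * (r + 1)) := by
      refine Nat.Coprime.pow_left _ (Nat.Coprime.mul_right ?_ (by simp))
      refine (Nat.Prime.coprime_iff_not_dvd hp.out).mpr fun h => ?_
      have := Nat.le_of_dvd (by omega) h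
      omega
    exact isCyclic_of_card_dvd_prime (p := r) (hn ▸ hc.dvd_of_dvd_mul_right h1)
  obtain ⟨S, hS⟩ := hP.exists_le_sylow
  have := Cfsg.Agent.S0262.result p r h2 h S
  exact isCyclic_of_le hS

theorem exists_inv (h3 : 3 < p) : ∃ n : SLp p, n * hh * n⁻¹ = hh⁻¹ ∧ n ^ 4 = 1 ∧ n ^ 2 ≠ 1 := by
  classical
  have h3' : (3 : ZMod p) ≠ 0 := by
    intro h
    have h4 : ((3 : ℕ) : ZMod p) = 0 := by exact_mod_cast h
    rw [ZMod.natCast_eq_zero_iff] at h4
    have := Nat.le_of_dvd (by norm_num) h4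
    omega
  have h2' : (2 : ZMod p) ≠ 0 := by
    intro h
    have h4 : ((2 : ℕ) : ZMod p) = 0 := by exact_mod_cast h
    rw [ZMod.natCast_eq_zero_iff] at h4
    have := Nat.le_of_dvd (by norm_num) h4
    omega
  obtain ⟨x, y, hxy⟩ := FiniteField.exists_root_sum_quadratic (R := ZMod p)
    (f := Polynomial.X ^ 2 - Polynomial.C (-1 : ZMod p))
    (g := Polynomial.C 3 * Polynomial.X ^ 2)
    (Polynomial.degree_X_pow_sub_C (by norm_num) _)
    (Polynomial.degree_C_mul_X_pow 2 h3')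
    (by rw [ZMod.card]; exact hp.out.eq_two_or_odd.resolve_left (by omega))
  simp only [Polynomial.eval_sub, Polynomial.eval_pow, Polynomial.eval_X, Polynomial.eval_C,
    Polynomial.eval_mul] at hxy
  let n : SLp p := ⟨!![x + y, y - x; 2 * y, -(x + y)], by
    rw [Matrix.det_fin_two_of]; linear_combination -hxy⟩
  have hn : n.1 = !![x + y, y - x; 2 * y, -(x + y)] := rfl
  have h2 : (n ^ 2).1 = !![-1, 0; 0, -1] := by
    rw [pow_two, Matrix.SpecialLinearGroup.coe_mul, hn]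
    ext i j; fin_cases i <;> fin_cases j <;> simp [Matrix.mul_apply]
    · linear_combination hxy
    · ring
    · ring
    · linear_combination hxy
  refine ⟨n, ?_, ?_, fun h => h2' ?_⟩
  · rw [mul_inv_eq_iff_eq_mul, eq_inv_mul_iff_mul_eq]
    apply Subtype.ext
    rw [Matrix.SpecialLinearGroup.coe_mul, Matrix.SpecialLinearGroup.coe_mul, hn, hh_val]
    ext i j; fin_cases i <;> fin_cases j <;> simp [Matrix.mul_apply] <;> ring
  · apply Subtype.ext
    rw [show 4 = 2 + 2 from rfl, pow_add, Matrix.SpecialLinearGroup.coe_mul, h2]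
    ext i j; fin_cases i <;> fin_cases j <;> simp [Matrix.mul_apply]
  · rw [h] at h2
    have h5 : (1 : ZMod p) = -1 := by simpa using congrFun (congrFun h2 0) 0
    linear_combination h5

theorem hh_not_center : (hh : SLp p) ∉ center (SLp p) := by
  intro h
  have h1 := congrArg (fun x : SLp p => x 0 0) (mem_center_iff.mp h (uu 1))
  simp [Matrix.mul_apply] at h1

variable {X : Type*} [Group X] [Finite X] {π : X →* SLp p}

/-- A minimal cover. -/
structure Mn (π : X →* SLp p) : Prop where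
  p3 : 3 < p
  surj : Function.Surjective π
  min : ∀ Y : Subgroup X, Y.map π = ⊤ → Y = ⊤

theorem exists_mn (h3 : 3 < p) (hπ : Function.Surjective π) :
    ∃ L : Subgroup X, Mn (π.comp L.subtype) := by
  obtain ⟨L, h1, h2⟩ := WellFounded.has_min wellFounded_lt {L : Subgroup X | L.map π = ⊤}
    ⟨⊤, by rw [Set.mem_ofPred_eq, ← MonoidHom.range_eq_map, MonoidHom.range_eq_top.mpr hπ]⟩
  refine ⟨L, h3, fun x => ?_, fun K hK => ?_⟩
  · obtain ⟨g, hg, rfl⟩ : x ∈ L.map π := h1 ▸ mem_top x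
    exact ⟨⟨g, hg⟩, rfl⟩
  · rw [← map_map] at hK
    rw [← map_subtype_inj, ← MonoidHom.range_eq_map, range_subtype]
    exact (map_subtype_le K).eq_of_not_lt (h2 _ hK)

namespace Mn

variable (h : Mn π)
include h

omit [Finite X] in
theorem perfect : commutator X = ⊤ := h.min _ (by
  rw [map_commutator_eq, MonoidHom.range_eq_top.mpr h.surj]
  exact (Rank2.isPerfect_SL2 (F := ZMod p) (by rw [Nat.card_zmod]; exact h.p3)).commutator_eq_top)

omit [Finite X] in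
theorem top_of {N : Subgroup X} (hN : N.Normal) {x : X} (hx : x ∈ N) (hx2 : π x = hh) : N = ⊤ := by
  have := hN.map π h.surj
  exact h.min _ (Rank2.normal_SL2_eq_top (F := ZMod p) (by rw [Nat.card_zmod]; exact h.p3) _
    fun e => hh_not_center (e ⟨x, hx, hx2⟩))

theorem nilpotent : Group.IsNilpotent π.ker := by
  have hF : π.ker ≤ frattini X := by
    rw [frattini, Order.radical]
    refine le_iInf₂ fun K hK => ?_
    by_contra h'
    refine hK.1 (h.min K ?_)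
    rw [← sup_bot_eq (K.map π), ← (map_eq_bot_iff π.ker).mpr le_rfl, ← Subgroup.map_sup,
      hK.2 _ (left_lt_sup.mpr h'), ← MonoidHom.range_eq_map, MonoidHom.range_eq_top.mpr h.surj]
  have := frattini_nilpotent (G := X)
  exact Group.nilpotent_of_mulEquiv (subgroupOfEquivOfLe hF)

theorem exists_sylow (s : ℕ) [Fact s.Prime] (hs : s ∣ Nat.card π.ker) :
    ∃ P : Subgroup X, P.Normal ∧ IsPGroup s P ∧ P ≠ ⊥ ∧
    P ≤ π.ker ∧ ∀ x, π x = 1 → ∀ j, x ^ s ^ j = 1 → x ∈ P := by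
  have := h.nilpotent
  obtain ⟨S⟩ : Nonempty (Sylow s π.ker) := inferInstance
  have := S.characteristic_of_normal inferInstance
  refine ⟨(S : Subgroup π.ker).map π.ker.subtype, inferInstance, S.isPGroup'.map _, ?_,
    map_subtype_le _, fun x hx j hj => ⟨⟨x, hx⟩, ?_, rfl⟩⟩
  · rw [Ne, map_eq_bot_iff_of_injective _ (subtype_injective _)]
    exact S.ne_bot_of_dvd_card hs
  have h1 : IsPGroup s (zpowers (⟨x, hx⟩ : π.ker)) := by
    rintro ⟨_, k, rfl⟩
    refine ⟨j, Subtype.ext ?_⟩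
    have : (⟨x, hx⟩ : π.ker) ^ s ^ j = 1 := Subtype.ext hj
    change ((⟨x, hx⟩ : π.ker) ^ k) ^ s ^ j = 1
    rw [← zpow_natCast, ← zpow_mul, mul_comm, zpow_mul, zpow_natCast, this, one_zpow]
  exact (S.is_maximal' (h1.to_sup_of_normal_right S.isPGroup') le_sup_right).le
      (mem_sup_left (mem_zpowers _))

theorem not_central {s : ℕ} [hs : Fact s.Prime] (h2 : s ≠ 2) {P : Subgroup X} (hP : IsPGroup s P)
    (h0 : P ≠ ⊥) (hmax : ∀ x, π x = 1 → ∀ j, x ^ s ^ j = 1 → x ∈ P) : ¬ P ≤ center X := by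
  intro hc
  obtain ⟨R⟩ : Nonempty (Sylow s X) := inferInstance
  have : IsCyclic (π.comp (R : Subgroup X).subtype).range :=
    cyc_SL h2 (R.isPGroup'.of_surjective _ (MonoidHom.rangeRestrict_surjective _))
  have hR : IsMulCommutative (R : Subgroup X) := by
    refine (π.comp (R : Subgroup X).subtype).rangeRestrict.isMulCommutative_of_isCyclic_of_ker_le_center
      fun x hx => ?_
    obtain ⟨j, hj⟩ := R.isPGroup' x
    have h1 := hc (hmax x (congrArg Subtype.val hx) j (congrArg Subtype.val hj))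
    exact mem_center_iff.mpr fun g => Subtype.ext (mem_center_iff.mp h1 g)
  apply Trans.not_dvd_card_center_inf_commutator R hR
  rw [h.perfect, inf_top_eq]
  obtain ⟨n, hn⟩ := IsPGroup.iff_card.mp hP
  refine dvd_trans ?_ (card_dvd_of_le hc)
  rw [hn]
  refine dvd_pow_self _ fun e => h0 ?_
  rwa [e, pow_zero, card_eq_one] at hn

theorem not_three (c3 : ∀ P : Subgroup X, IsPGroup 3 P → IsCyclic P) : ¬ 3 ∣ Nat.card π.ker := by
  intro h3
  have := Fact.mk Nat.prime_three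
  obtain ⟨P, hP, hP1, hP0, -, hP3⟩ := h.exists_sylow 3 h3
  refine h.not_central (by norm_num) hP1 hP0 hP3 fun x hx => mem_center_iff.mpr fun g => ?_
  have := c3 P hP1
  let θ := (IsCyclic.mulAutMulEquiv P).toMonoidHom.comp (MulAut.conjNormal : X →* MulAut P)
  have h1 : θ g = 1 := Abelianization.commutator_subset_ker θ (h.perfect ▸ mem_top g)
  have h2 : MulAut.conjNormal (H := P) g = 1 :=
    (IsCyclic.mulAutMulEquiv P).injective (h1.trans (map_one _).symm)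
  have h4 := congrArg (fun e : MulAut P => (e ⟨x, hx⟩ : X)) h2
  simp only [MulAut.conjNormal_apply, MulAut.one_apply] at h4
  exact mul_inv_eq_iff_eq_mul.mp h4

theorem frob (c2 : (Nat.card π.ker).Coprime 2)
    (uq : ∀ a b : X, a * a = 1 → a ≠ 1 → b * b = 1 → b ≠ 1 → a = b)
    (c3 : (Nat.card π.ker).Coprime 3) {s : ℕ} [hs : Fact s.Prime] (hd : s ∣ Nat.card π.ker) :
    ∃ (a t : X) (e : ℕ), a ≠ 1 ∧ t ≠ 1 ∧ a ^ s ^ e = 1 ∧ t ^ 3 = 1 ∧ Commute a (t * a * t⁻¹) ∧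
      a * (t * a * t⁻¹) * (t * (t * a * t⁻¹) * t⁻¹) = 1 := by
  have s2 : s.Coprime 2 := c2.coprime_dvd_left hd
  have hs2 : s ≠ 2 := by rintro rfl; simp at s2
  obtain ⟨P, hP, hP1, hP0, hP2, hP3⟩ := h.exists_sylow s hd
  obtain ⟨B, ⟨hB, hB1, hB2⟩, hB3⟩ := WellFounded.has_min wellFounded_lt
    {B : Subgroup X | B.Normal ∧ B ≤ P ∧ ¬ B ≤ center X}
    ⟨P, hP, le_rfl, h.not_central hs2 hP1 hP0 hP3⟩
  have hmin : ∀ C : Subgroup X, C.Normal → C < B → C ≤ center X := fun C hC hlt => by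
    by_contra e
    exact hB3 C ⟨hC, hlt.le.trans hB1, e⟩ hlt
  have hBB : ∀ a ∈ B, ∀ b ∈ B, ∀ g, g * (a * b * a⁻¹ * b⁻¹) = (a * b * a⁻¹ * b⁻¹) * g :=
    fun a ha b hb => mem_center_iff.mp (hmin _ inferInstance
      (Solv.PG.commutator_lt_of_isNilpotent h.nilpotent (hB1.trans hP2)
        le_normalizer_of_normal fun e => hB2 (e ▸ bot_le))
      (commutator_mem_commutator ha (hP2 (hB1 hb))))
  obtain ⟨e, he⟩ := IsPGroup.iff_card.mp (hP1.to_le hB1)
  have hexp : ∀ a ∈ B, a ^ s ^ e = 1 := fun a ha => by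
    rw [← he]; exact congrArg Subtype.val (pow_card_eq_one' (x := (⟨a, ha⟩ : B)))
  obtain ⟨m, hm⟩ : ∃ m, s ^ e + 1 = 2 * m :=
    ((hs.out.odd_of_ne_two hs2).pow.add_one).two_dvd
  have hsq : ∀ a ∈ B, (a ^ 2) ^ m = a := fun a ha => by
    rw [← pow_mul, ← hm, pow_succ, hexp a ha, one_mul]
  obtain ⟨t, ht1, ht2⟩ := lift_coprime π h.surj hh_pow c3
  have tne : t ≠ 1 := fun e => hh_ne (by rw [← ht1, e, map_one])
  obtain ⟨nb, nb1, nb2, nb3⟩ := exists_inv h.p3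
  obtain ⟨n0, rfl⟩ := h.surj nb
  have := h.nilpotent
  obtain ⟨y, hy, hy2⟩ := Chev.exists_conj_eq_of_coprime (U := π.ker) inferInstance
    (b := n0 * t * n0⁻¹) (t := t⁻¹) (by
      rw [MonoidHom.mem_ker, map_mul, map_mul, map_mul, map_inv, map_inv, map_inv, ht1, nb1,
        mul_inv_cancel]) (le_normalizer_of_normal (mem_top _))
    (c3.coprime_dvd_right (orderOf_dvd_of_pow_eq_one (by rw [conj_pow, ht2, mul_one, mul_inv_cancel])))
    (c3.coprime_dvd_right (orderOf_dvd_of_pow_eq_one (by rw [inv_pow, ht2, inv_one])))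
  have hπy : π (y * n0) = π n0 := by rw [map_mul, hy, one_mul]
  obtain ⟨k, hk1, hk2, hk3⟩ := lift_pow π (y * n0) (m := 4) (by rw [hπy, nb2])
    (c2.pow_right 2)
  have n1t : y * n0 * t * (y * n0)⁻¹ = t⁻¹ := by rw [← hy2]; group
  generalize y * n0 = n1 at hπy hk2 hk3 n1t
  have hnt : n1 ^ k * t * (n1 ^ k)⁻¹ = t⁻¹ := by
    have h1 : Commute (n1 ^ 2) t := by
      have : n1 * t⁻¹ * n1⁻¹ = t := by rw [← conj_inv, n1t, inv_inv]
      rw [Commute, SemiconjBy, ← mul_inv_eq_iff_eq_mul]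
      calc n1 ^ 2 * t * (n1 ^ 2)⁻¹ = n1 * (n1 * t * n1⁻¹) * n1⁻¹ := by rw [pow_two]; group
        _ = t := by rw [n1t, this]
    obtain ⟨j, rfl⟩ : ∃ j, k = 2 * j + 1 := ⟨k / 2, by unfold Nat.ModEq at hk1; omega⟩
    rw [pow_succ', pow_mul, mul_assoc n1, (h1.pow_left j).eq, ← n1t]
    group
  generalize n1 ^ k = n at hk2 hk3 hnt
  have hn2 : ∀ g, g * (n * n) = n * n * g := by
    intro g
    have h1 : n * n * (n * n) = 1 := by rw [← hk3]; simp only [pow_succ, pow_zero, one_mul, mul_assoc]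
    have h2 : n * n ≠ 1 := fun e => nb3 (by rw [← hπy, ← hk2, pow_two, ← map_mul, e, map_one])
    rw [← mul_inv_eq_iff_eq_mul]
    refine uq _ _ ?_ (fun e => h2 ?_) h1 h2
    · rw [conj_mul, h1, mul_one, mul_inv_cancel]
    · rwa [mul_inv_eq_one, mul_eq_left] at e
  obtain ⟨w, hw, hwt⟩ : ∃ w ∈ B, t * w * t⁻¹ ≠ w := by
    by_contra hne
    push Not at hne
    have : centralizer (B : Set X) = ⊤ := h.top_of inferInstance (x := t)
      (mem_centralizer_iff.mpr fun w hw => (mul_inv_eq_iff_eq_mul.mp (hne w hw)).symm) ht1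
    exact hB2 fun w hw => mem_center_iff.mpr fun g =>
      (mem_centralizer_iff.mp (this ▸ mem_top g) w hw).symm
  have hw' : n * w * n⁻¹ ∈ B := hB.conj_mem w hw n
  have hnn : n * (n * w * n⁻¹) * n⁻¹ = w := by
    calc _ = n * n * w * (n * n)⁻¹ := by group
      _ = w := by rw [← hn2, mul_inv_cancel_right]
  have t3 : t * t * t = 1 := by rw [← ht2, pow_succ, pow_two]
  -- it suffices to find a suitable `x`
  suffices key : ∃ x ∈ B, t * x * t⁻¹ ≠ x ∧ Commute x (t * x * t⁻¹) by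
    obtain ⟨x, hx, hx1, hx2⟩ := key
    have e3 : t * (t * (t * x * t⁻¹) * t⁻¹) * t⁻¹ = x := by
      calc _ = t * t * t * x * (t * t * t)⁻¹ := by group
        _ = x := by rw [t3]; simp
    have cj : ∀ {a b : X}, Commute a b → Commute (t * a * t⁻¹) (t * b * t⁻¹) := fun hab => by
      rw [Commute, SemiconjBy, conj_mul, conj_mul, hab.eq]
    have c1 := cj hx2
    have c2' := cj c1
    rw [e3] at c2'
    have a1 : t * (x⁻¹ * (t * x * t⁻¹)) * t⁻¹ =
        (t * x * t⁻¹)⁻¹ * (t * (t * x * t⁻¹) * t⁻¹) := by group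
    have a2 : t * ((t * x * t⁻¹)⁻¹ * (t * (t * x * t⁻¹) * t⁻¹)) * t⁻¹ =
        (t * (t * x * t⁻¹) * t⁻¹)⁻¹ * x := by
      rw [← conj_mul, e3, conj_inv (a := t * x * t⁻¹)]
    refine ⟨x⁻¹ * (t * x * t⁻¹), t, e, fun e => hx1 (inv_mul_eq_one.mp e).symm, tne,
      hexp _ (mul_mem (inv_mem hx) (hB.conj_mem x hx t)), ht2, ?_, ?_⟩
    · rw [a1]
      generalize t * (t * x * t⁻¹) * t⁻¹ = x2 at c1 c2'
      generalize t * x * t⁻¹ = x1 at hx2 c1
      exact (hx2.inv_inv.mul_right c2'.symm.inv_left).mul_left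
        ((Commute.refl x1).inv_right.mul_right c1)
    · rw [a1, a2]
      group
  have fin : ∀ x ∈ B, n * (x * (t * x * t⁻¹) * x⁻¹ * (t * x * t⁻¹)⁻¹) * n⁻¹ =
      t⁻¹ * (x * (t * x * t⁻¹) * x⁻¹ * (t * x * t⁻¹)⁻¹)⁻¹ * t → Commute x (t * x * t⁻¹) := by
    intro x hx e
    have hx' := hB.conj_mem x hx t
    have c := hBB x hx _ hx'
    have hc : x * (t * x * t⁻¹) * x⁻¹ * (t * x * t⁻¹)⁻¹ ∈ B :=
      mul_mem (mul_mem (mul_mem hx hx') (inv_mem hx)) (inv_mem hx')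
    have e1 : x * (t * x * t⁻¹) * x⁻¹ * (t * x * t⁻¹)⁻¹ = 1 := by
      generalize x * (t * x * t⁻¹) * x⁻¹ * (t * x * t⁻¹)⁻¹ = c0 at e c hc
      have e2 : t⁻¹ * c0⁻¹ * t = c0⁻¹ := by
        rw [← mul_inv_rev, ← c t, mul_inv_rev, inv_mul_cancel_right]
      rw [c n, mul_inv_cancel_right, e2] at e
      rw [← hsq c0 hc, pow_two]
      nth_rewrite 1 [e]
      rw [inv_mul_cancel, one_pow]
    rwa [mul_inv_eq_one, mul_inv_eq_iff_eq_mul] at e1
  have nt : ∀ x, n * (t * x * t⁻¹) * n⁻¹ = t⁻¹ * (n * x * n⁻¹) * t := by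
    intro x
    calc _ = (n * t * n⁻¹) * (n * x * n⁻¹) * (n * t * n⁻¹)⁻¹ := by group
      _ = _ := by rw [hnt, inv_inv]
  have nc : ∀ x, n * (x * (t * x * t⁻¹) * x⁻¹ * (t * x * t⁻¹)⁻¹) * n⁻¹ =
      (n * x * n⁻¹) * (t⁻¹ * (n * x * n⁻¹) * t) * (n * x * n⁻¹)⁻¹ *
        (t⁻¹ * (n * x * n⁻¹) * t)⁻¹ := by
    intro x
    rw [← nt]; group
  by_cases h1 : t * (w * (n * w * n⁻¹)⁻¹) * t⁻¹ = w * (n * w * n⁻¹)⁻¹
  · refine ⟨w * (n * w * n⁻¹), mul_mem hw hw', fun h2 => hwt ?_, fin _ (mul_mem hw hw') ?_⟩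
    · have c := hBB _ (inv_mem hw') _ hw
      have e1 : w ^ 2 = ((n * w * n⁻¹)⁻¹ * w * (n * w * n⁻¹)⁻¹⁻¹ * w⁻¹)⁻¹ *
          (w * (n * w * n⁻¹)⁻¹ * (w * (n * w * n⁻¹))) := by
        rw [eq_inv_mul_iff_mul_eq, pow_two, ← mul_assoc, ← c w]; group
      have e2 : t * w ^ 2 * t⁻¹ = w ^ 2 := by
        rw [e1, ← conj_mul, ← conj_mul, h1, h2, ← conj_inv, c t, mul_inv_cancel_right]
      rw [← hsq w hw, ← conj_pow, e2]
    · have hx := mul_mem hw hw'
      have c := hBB _ hw' _ hw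
      have e1 : n * (w * (n * w * n⁻¹)) * n⁻¹ =
          (n * w * n⁻¹ * w * (n * w * n⁻¹)⁻¹ * w⁻¹) * (w * (n * w * n⁻¹)) := by
        rw [← conj_mul, hnn]; group
      rw [nc, e1]
      generalize n * w * n⁻¹ * w * (n * w * n⁻¹)⁻¹ * w⁻¹ = z at c
      generalize w * (n * w * n⁻¹) = x
      have c' : ∀ g, z * g * z⁻¹ = g := fun g => by rw [← c, mul_inv_cancel_right]
      have e2 : t⁻¹ * (z * x) * t = z * (t⁻¹ * x * t) := by
        rw [← mul_assoc t⁻¹, c, mul_assoc z, mul_assoc z]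
      rw [e2]
      calc _ = z * (x * (z * (t⁻¹ * x * t * x⁻¹) * z⁻¹) * (t⁻¹ * x * t)⁻¹) * z⁻¹ := by group
        _ = _ := by rw [c', c']; group
  · refine ⟨_, mul_mem hw (inv_mem hw'), h1, fin _ (mul_mem hw (inv_mem hw')) ?_⟩
    have hx := mul_mem hw (inv_mem hw')
    have e1 : n * (w * (n * w * n⁻¹)⁻¹) * n⁻¹ = (w * (n * w * n⁻¹)⁻¹)⁻¹ := by
      rw [← conj_mul, ← conj_inv, hnn]; group
    rw [nc, e1]
    generalize w * (n * w * n⁻¹)⁻¹ = x at hx
    have c := hBB _ hx _ (hB.conj_mem' x hx t)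
    have e2 : x⁻¹ * (t⁻¹ * x⁻¹ * t) * x⁻¹⁻¹ * (t⁻¹ * x⁻¹ * t)⁻¹ =
        (t⁻¹ * x * t * x)⁻¹ * (x * (t⁻¹ * x * t) * x⁻¹ * (t⁻¹ * x * t)⁻¹) * (t⁻¹ * x * t * x) := by
      group
    rw [e2, c, inv_mul_cancel_right]
    group

end Mn

theorem good_min {K : Type*} [Field K] [IsAlgClosed K] (hπ : Function.Surjective π) (h7 : 7 ≤ p)
    (c2 : (Nat.card π.ker).Coprime 2)
    (uq : ∀ a b : X, a * a = 1 → a ≠ 1 → b * b = 1 → b ≠ 1 → a = b)
    (c3 : ∀ P : Subgroup X, IsPGroup 3 P → IsCyclic P) (h3K : ((3 : ℕ) : K) ≠ 0)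
    {V : Type v} [AddCommGroup V] [Module K V] [FiniteDimensional K V]
    (ρ : Representation K X V) : Good ρ := by
  obtain ⟨L, h⟩ := exists_mn (by omega) hπ
  refine Good.of_comp (subtype_injective L) ?_
  have d2 : (Nat.card (π.comp L.subtype).ker).Coprime 2 := by
    refine c2.coprime_dvd_left ?_
    rw [← card_map_of_injective (subtype_injective L)]
    exact card_dvd_of_le (by rintro _ ⟨x, hx, rfl⟩; exact hx)
  have uq' : ∀ a b : L, a * a = 1 → a ≠ 1 → b * b = 1 → b ≠ 1 → a = b := fun a b h1 h2 h3 h4 =>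
    Subtype.ext (uq _ _ (congrArg Subtype.val h1) (fun e => h2 (Subtype.ext e))
      (congrArg Subtype.val h3) (fun e => h4 (Subtype.ext e)))
  have d3 : (Nat.card (π.comp L.subtype).ker).Coprime 3 := by
    refine ((Nat.Prime.coprime_iff_not_dvd Nat.prime_three).mpr (h.not_three fun P hP => ?_)).symm
    have := c3 _ (hP.map L.subtype)
    exact isCyclic_of_surjective _ (equivMapOfInjective P _ (subtype_injective L)).symm.surjective
  generalize ρ.comp L.subtype = σ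
  generalize π.comp L.subtype = θ at h d2 d3
  by_cases hs : ∃ s : ℕ, s.Prime ∧ s ∣ Nat.card θ.ker ∧ (s : K) ≠ 0
  · obtain ⟨s, hs1, hs2, hs3⟩ := hs
    have := Fact.mk hs1
    obtain ⟨a, t, e, a1, t1, a2, t2, h1, h2⟩ := h.frob d2 uq' d3 hs2
    refine good_of a1 t1 (a := 1) (b := 3) (by norm_num) ?_
    have key := frob_le ((d3.coprime_dvd_left hs2).pow_left e)
      (by rw [Nat.cast_pow]; exact pow_ne_zero _ hs3) a2 t2 h1 h2 σ
    have i1 := rk_gs_le (K := K) (T := σ a) (n := s ^ e) (by rw [← map_pow, a2, map_one])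
    have i2 := rk_gs_le (K := K) (T := σ t) (n := 3) (by rw [← map_pow, t2, map_one])
    omega
  push Not at hs
  have key : ∀ l : ℕ, [Fact l.Prime] → (l : K) = 0 → CharP K l ∧ IsPGroup l θ.ker := by
    intro l hl hlK
    have i : CharP K l := (CharP.charP_iff_prime_eq_zero hl.out).mpr hlK
    refine ⟨i, IsPGroup.iff_card.mpr ⟨_, Nat.eq_prime_pow_of_unique_prime_dvd
      Nat.card_pos.ne' fun {s} h1 h2 => ?_⟩⟩
    exact ((Nat.prime_dvd_prime_iff_eq hl.out h1).mp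
      ((CharP.cast_eq_zero_iff K l s).mp (hs s h1 h2))).symm
  by_cases hpK : (p : K) = 0
  · obtain ⟨i, h1⟩ := key p hpK
    exact good_def θ h.surj h7 h1 σ
  refine good_cross θ h.surj h7 hpK h3K d3
    ((Nat.Prime.coprime_iff_not_dvd hp.out).mpr fun e => hpK (hs p hp.out e)).symm ?_ σ
  intro M _ _ τ hτ x hx
  by_cases h1 : Nat.card θ.ker = 1
  · rw [card_eq_one] at h1
    rw [h1, mem_bot] at hx
    rw [hx, map_one]
  obtain ⟨l, hl1, hl2⟩ := Nat.exists_prime_and_dvd h1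
  have := Fact.mk hl1
  obtain ⟨i, h2⟩ := key l (hs l hl1 hl2)
  exact triv_of_pgroup θ.ker h2 hτ x hx

end Cfsg.Lib.Hls
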