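import Mathlib

/-!
# Fixed spaces: linear algebra, reduction to simple modules
-/

set_option autoImplicit false

namespace Cfsg.Lib.Hls

open Module
open LinearMap hiding smul_apply sub_apply add_apply zero_apply

universe v

section Lin

variable {K V : Type*} [Field K] [AddCommGroup V] [Module K V] [FiniteDimensional K V]

/-- rank of an endomorphism -/
noncomputable abbrev rk (f : End K V) : ℕ := finrank K (range f)

/-- nullity of an endomorphism -/
noncomputable abbrev nl (f : End K V) : ℕ := finrank K (ker f)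

theorem rk_add_nl (f : End K V) : rk f + nl f = finrank K V := finrank_range_add_finrank_ker f

theorem map_add_inf (f : End K V) (W : Submodule K V) :
    finrank K (W.map f) + finrank K ↥(W ⊓ ker f) = finrank K W := by
  have h := finrank_range_add_finrank_ker (f.domRestrict W)
  rw [range_domRestrict] at h
  rw [← h, ker_domRestrict]
  congr 1
  rw [← Submodule.finrank_map_subtype_eq W, Submodule.map_comap_subtype]

theorem step (f : End K V) {U W : Submodule K V} (h : U ≤ W) :
    finrank K U ≤ finrank K (U.map f) + finrank K ↥(W ⊓ ker f) := by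
  rw [← map_add_inf f U]
  exact Nat.add_le_add_left (Submodule.finrank_mono (inf_le_inf_right _ h)) _

theorem nl_mul_le (f g : End K V) : nl (f * g) ≤ nl f + nl g := by
  have h1 := step g (U := ker (f * g)) (W := ⊤) le_top
  have h2 : finrank K ((ker (f * g)).map g) ≤ nl f := by
    refine Submodule.finrank_mono ?_
    rintro _ ⟨x, hx, rfl⟩
    exact hx
  rw [top_inf_eq] at h1
  unfold nl at *
  omega

theorem nl_pow_le (f : End K V) (n : ℕ) : nl (f ^ n) ≤ n * nl f := by
  induction n with
  | zero =>
    have : ker (f ^ 0) = ⊥ := by rw [pow_zero]; exact ker_id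
    unfold nl
    rw [this, finrank_bot]; omega
  | succ n ih =>
    have := nl_mul_le (f ^ n) f
    rw [← pow_succ] at this
    rw [Nat.succ_mul]; omega

omit [FiniteDimensional K V] in
theorem nl_zero : nl (0 : End K V) = finrank K V := by
  unfold nl
  rw [ker_zero, finrank_top]

theorem nl_aeval_le (A : End K V) (hA : ∀ c : K, nl (A - algebraMap K _ c) ≤ 1) (s : Multiset K) :
    nl (Polynomial.aeval A (s.map fun c => Polynomial.X - Polynomial.C c).prod) ≤ s.card := by
  induction s using Multiset.induction_on with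
  | empty =>
    have : ker (Polynomial.aeval A ((0 : Multiset K).map
        fun c => Polynomial.X - Polynomial.C c).prod) = ⊥ := by
      simp only [Multiset.map_zero, Multiset.prod_zero, map_one]; exact ker_id
    unfold nl
    rw [this, finrank_bot]; omega
  | cons a s ih =>
    rw [Multiset.map_cons, Multiset.prod_cons, map_mul, Multiset.card_cons]
    have := nl_mul_le (Polynomial.aeval A (Polynomial.X - Polynomial.C a))
      (Polynomial.aeval A (s.map fun c => Polynomial.X - Polynomial.C c).prod)
    have h2 := hA a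
    simp only [map_sub, Polynomial.aeval_X, Polynomial.aeval_C] at this ⊢
    omega

theorem nl_pow_sub_le [IsAlgClosed K] (A : End K V) (hA : ∀ c : K, nl (A - algebraMap K _ c) ≤ 1)
    {n : ℕ} (hn : 0 < n) (c : K) : nl (A ^ n - algebraMap K _ c) ≤ n := by
  have hm : (Polynomial.X ^ n - Polynomial.C c : Polynomial K).Monic :=
    Polynomial.monic_X_pow_sub_C c hn.ne'
  have hs : (Polynomial.X ^ n - Polynomial.C c : Polynomial K).Splits := IsAlgClosed.splits _
  have h1 := hs.eq_prod_roots_of_monic hm
  have h2 := nl_aeval_le A hA (Polynomial.X ^ n - Polynomial.C c : Polynomial K).roots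
  rw [← h1] at h2
  have h3 : (Polynomial.X ^ n - Polynomial.C c : Polynomial K).roots.card ≤ n := by
    have := Polynomial.card_roots' (Polynomial.X ^ n - Polynomial.C c : Polynomial K)
    rwa [Polynomial.natDegree_X_pow_sub_C] at this
  simp only [map_sub, map_pow, Polynomial.aeval_X, Polynomial.aeval_C] at h2
  omega

theorem nl_le (f : End K V) (U : Submodule K V) (fU : End K U) (fQ : End K (V ⧸ U))
    (hU : ∀ u : U, (fU u : V) = f u) (hQ : ∀ x, fQ (U.mkQ x) = U.mkQ (f x)) :
    nl f ≤ nl fU + nl fQ := by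
  have h := finrank_range_add_finrank_ker (U.mkQ.domRestrict (ker f))
  have h1 : finrank K (range (U.mkQ.domRestrict (ker f))) ≤ nl fQ := by
    refine Submodule.finrank_mono ?_
    rintro _ ⟨x, rfl⟩
    rw [mem_ker, domRestrict_apply, hQ, x.2, map_zero]
  have h2 : finrank K (ker (U.mkQ.domRestrict (ker f))) ≤ nl fU := by
    unfold nl
    rw [← Submodule.finrank_map_subtype_eq (ker f), ← Submodule.finrank_map_subtype_eq U]
    refine Submodule.finrank_mono ?_
    rintro _ ⟨x, hx, rfl⟩
    have hx' : (x : V) ∈ U := by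
      simpa [mem_ker, domRestrict_apply] using hx
    refine ⟨⟨x, hx'⟩, ?_, rfl⟩
    apply Subtype.ext
    rw [hU]; exact x.2
  unfold nl at *
  omega

theorem rk_ge (f : End K V) (U : Submodule K V) (fU : End K U) (fQ : End K (V ⧸ U))
    (hU : ∀ u : U, (fU u : V) = f u) (hQ : ∀ x, fQ (U.mkQ x) = U.mkQ (f x)) :
    rk fU + rk fQ ≤ rk f := by
  have h1 := nl_le f U fU fQ hU hQ
  have h2 := rk_add_nl f
  have h3 := rk_add_nl fU
  have h4 := rk_add_nl fQ
  have h5 := U.finrank_quotient_add_finrank
  omega

theorem sum_eig_le (T : End K V) (W : Submodule K V) (s : Finset K) :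
    ∑ μ ∈ s, finrank K ↥(T.eigenspace μ ⊓ W) ≤ finrank K W := by
  classical
  have key : ∀ s : Finset K, ∑ μ ∈ s, finrank K ↥(T.eigenspace μ ⊓ W) =
      finrank K ↥(⨆ μ ∈ s, T.eigenspace μ ⊓ W) := by
    intro s
    induction s using Finset.induction_on with
    | empty =>
      have : (⨆ μ ∈ (∅ : Finset K), T.eigenspace μ ⊓ W) = ⊥ := by simp
      rw [this, finrank_bot, Finset.sum_empty]
    | insert a s ha ih =>
      rw [Finset.sum_insert ha, Finset.iSup_insert, ih]
      have hd : Disjoint (T.eigenspace a ⊓ W) (⨆ μ ∈ s, T.eigenspace μ ⊓ W) := by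
        have := T.eigenspaces_iSupIndep.disjoint_biSup (x := a) (y := (s : Set K)) ha
        refine this.mono inf_le_left ?_
        exact iSup₂_mono fun _ _ => inf_le_left
      have := Submodule.finrank_sup_add_finrank_inf_eq (T.eigenspace a ⊓ W)
        (⨆ μ ∈ s, T.eigenspace μ ⊓ W)
      rw [hd.eq_bot, finrank_bot] at this
      omega
  rw [key]
  exact Submodule.finrank_mono (iSup₂_le fun _ _ => inf_le_right)

/-- A list of pairwise different eigenvalues. -/
theorem sum_eig_le' (T : End K V) (W : Submodule K V) (l : List K) (hl : l.Nodup) :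
    (l.map fun μ => finrank K ↥(T.eigenspace μ ⊓ W)).sum ≤ finrank K W := by
  classical
  rw [← List.sum_toFinset _ hl]
  exact sum_eig_le T W _

omit [FiniteDimensional K V] in
theorem li_pow (E : End K V) (hE : IsNilpotent E) (v : V) (k : ℕ) (hk : (E ^ k) v ≠ 0) :
    LinearIndependent K fun i : Fin (k + 1) => (E ^ (i : ℕ)) v := by
  obtain ⟨m, hm1, hm2⟩ : ∃ m, (E ^ m) v ≠ 0 ∧ (E ^ (m + 1)) v = 0 ∧ k ≤ m := by
    obtain ⟨N, hN⟩ := hE
    have hex : ∃ j, (E ^ (k + j)) v = 0 := ⟨N, by rw [pow_add, hN, mul_zero]; rfl⟩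
    classical
    have h0 : Nat.find hex ≠ 0 := fun h => hk (by simpa [h] using Nat.find_spec hex)
    obtain ⟨j, hj⟩ := Nat.exists_eq_succ_of_ne_zero h0
    refine ⟨k + j, Nat.find_min hex (by omega), ?_, by omega⟩
    have := Nat.find_spec hex
    rwa [hj] at this
  rw [Fintype.linearIndependent_iff]
  intro g hg
  have hz : ∀ a, m + 1 ≤ a → (E ^ a) v = 0 := by
    intro a ha
    obtain ⟨b, rfl⟩ := Nat.exists_eq_add_of_le ha
    rw [add_comm, pow_add, End.mul_apply, hm2.1, map_zero]
  suffices h : ∀ n, ∀ i : Fin (k + 1), (i : ℕ) < n → g i = 0 from fun i => h _ i (Nat.lt_succ_self _)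
  intro n
  induction n with
  | zero => intro i hi; omega
  | succ n ih =>
    intro i hi
    have h1 := congrArg (E ^ (m - i)) hg
    rw [map_sum, map_zero, Finset.sum_eq_single i] at h1
    · rw [map_smul, ← End.mul_apply, ← pow_add, Nat.sub_add_cancel (by omega)] at h1
      exact (smul_eq_zero.mp h1).resolve_right hm1
    · intro j _ hj
      rcases lt_or_gt_of_ne hj with h | h
      · rw [ih j (by have : (j : ℕ) < i := h; omega), zero_smul, map_zero]
      · rw [map_smul, ← End.mul_apply, ← pow_add, hz _ (by have : (i : ℕ) < j := h; omega),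
          smul_zero]
    · simp

theorem card_le_of_li {ι : Type*} {b : ι → V} (hb : LinearIndependent K b) (S : Finset ι)
    (W : Submodule K V) (h : ∀ i ∈ S, b i ∈ W) : S.card ≤ finrank K W := by
  have h1 : LinearIndependent K fun i : S => (⟨b i, h i i.2⟩ : W) := by
    refine LinearIndependent.of_comp W.subtype ?_
    exact hb.comp (fun i : S => (i : ι)) Subtype.val_injective
  simpa using h1.fintype_card_le_finrank

theorem one_le_of_mem {W : Submodule K V} {x : V} (hx : x ∈ W) (h0 : x ≠ 0) :
    1 ≤ finrank K W := by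
  rw [Nat.one_le_iff_ne_zero, Ne, Submodule.finrank_eq_zero]
  rintro rfl
  exact h0 hx

theorem nl_baseChange_le (L : Type*) [Field L] [Algebra K L] (f : End K V) :
    finrank L (ker (f.baseChange L)) ≤ nl f := by
  have h1 := rk_add_nl f
  have h2 := finrank_range_add_finrank_ker (f.baseChange L)
  rw [Module.finrank_baseChange] at h2
  have h3 : rk f ≤ finrank L (range (f.baseChange L)) := by
    unfold rk
    rw [← Module.finrank_baseChange (R := L)]
    have hs : Function.Surjective (f.rangeRestrict.baseChange L) :=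
      LinearMap.lTensor_surjective L f.surjective_rangeRestrict
    let g := ((range f).subtype.baseChange L).codRestrict (range (f.baseChange L))
      fun v => by
        obtain ⟨w, rfl⟩ := hs v
        refine ⟨w, ?_⟩
        rw [← LinearMap.comp_apply, ← LinearMap.baseChange_comp]
        rfl
    refine LinearMap.finrank_le_finrank_of_injective (f := g) fun a b hab => ?_
    have h : Function.Injective ((range f).subtype.baseChange L) :=
      Module.Flat.lTensor_preserves_injective_linearMap (M := L) _ (Submodule.injective_subtype _)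
    exact h (congrArg Subtype.val hab)
  omega

end Lin

section Alg

variable {K : Type*} [Field K]

/-- geometric sum `∑ (c x)^i` -/
noncomputable def gs {A : Type*} [Ring A] [Algebra K A] (c : K) (x : A) (n : ℕ) : A :=
  ∑ i ∈ Finset.range n, c ^ i • x ^ i

theorem map_gs {A B : Type*} [Ring A] [Algebra K A] [Ring B] [Algebra K B] (f : A →ₐ[K] B)
    (c : K) (x : A) (n : ℕ) : f (gs c x n) = gs c (f x) n := by
  simp [gs, map_sum]

variable {V : Type*} [AddCommGroup V] [Module K V]

theorem gs_apply_of_eig {c : K} {T : End K V} {n : ℕ} {v : V} (hc : c ≠ 0) (h : T v = c • v) :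
    gs c⁻¹ T n v = (n : K) • v := by
  have h1 : ∀ i : ℕ, (T ^ i) v = c ^ i • v := by
    intro i
    induction i with
    | zero => simp
    | succ i ih => rw [pow_succ', End.mul_apply, ih, map_smul, h, smul_smul, pow_succ]
  rw [gs, LinearMap.sum_apply, Finset.sum_congr rfl (g := fun _ => v), Finset.sum_const,
    Finset.card_range, Nat.cast_smul_eq_nsmul]
  intro i _
  rw [LinearMap.smul_apply, h1, smul_smul, ← mul_pow, inv_mul_cancel₀ hc, one_pow, one_smul]

theorem gs_eig {c : K} {T : End K V} {n : ℕ} (hc : c ≠ 0) (hT : T ^ n = 1) (hcn : c ^ n = 1)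
    (v : V) : T (gs c⁻¹ T n v) = c • gs c⁻¹ T n v := by
  have h1 : gs c⁻¹ T n = ∑ i ∈ Finset.range n, (c⁻¹ • T) ^ i := by
    simp [gs, smul_pow]
  have h2 := mul_geom_sum (c⁻¹ • T) n
  rw [smul_pow, hT, inv_pow, hcn, inv_one, one_smul, sub_self, ← h1] at h2
  have h3 := congrArg (fun f : End K V => c • f v) h2
  simp only [End.mul_apply, LinearMap.sub_apply, LinearMap.smul_apply, End.one_apply, LinearMap.zero_apply, smul_zero, smul_sub,
    smul_smul, mul_inv_cancel₀ hc, one_smul] at h3
  exact sub_eq_zero.mp h3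

theorem range_gs {c : K} {T : End K V} {n : ℕ} (hc : c ≠ 0) (hT : T ^ n = 1) (hcn : c ^ n = 1)
    (hn : (n : K) ≠ 0) : range (gs c⁻¹ T n) = T.eigenspace c := by
  apply le_antisymm
  · rintro _ ⟨v, rfl⟩
    exact End.mem_eigenspace_iff.mpr (gs_eig hc hT hcn v)
  · intro v hv
    refine ⟨(n : K)⁻¹ • v, ?_⟩
    rw [map_smul, gs_apply_of_eig hc (End.mem_eigenspace_iff.mp hv), smul_smul,
      inv_mul_cancel₀ hn, one_smul]

theorem range_gs_le {T : End K V} {n : ℕ} (hT : T ^ n = 1) :
    range (gs (1 : K) T n) ≤ ker (T - 1) := by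
  rintro _ ⟨v, rfl⟩
  have := gs_eig (c := (1 : K)) one_ne_zero hT (one_pow n) v
  rw [inv_one, one_smul] at this
  rw [mem_ker, LinearMap.sub_apply, this, End.one_apply, sub_self]

theorem ker_le_range_gs {T : End K V} {n : ℕ} (hn : (n : K) ≠ 0) :
    ker (T - 1) ≤ range (gs (1 : K) T n) := by
  intro v hv
  have h : T v = (1 : K) • v := by
    rw [one_smul]; exact sub_eq_zero.mp hv
  refine ⟨(n : K)⁻¹ • v, ?_⟩
  have := gs_apply_of_eig (n := n) one_ne_zero h
  rw [inv_one] at this
  rw [map_smul, this, smul_smul, inv_mul_cancel₀ hn, one_smul]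

end Alg

section Simple

variable {K G : Type*} [Field K] [Group G]

/-- A simple representation. -/
structure Sim {M : Type*} [AddCommGroup M] [Module K M] (σ : Representation K G M) : Prop where
  nt : Nontrivial M
  inv : ∀ U : Submodule K M, (∀ g, ∀ v ∈ U, σ g v ∈ U) → U = ⊥ ∨ U = ⊤

theorem Sim.top {M : Type*} [AddCommGroup M] [Module K M] {σ : Representation K G M} (h : Sim σ)
    {U : Submodule K M} (hU : ∀ g, ∀ v ∈ U, σ g v ∈ U) {x : M} (hx : x ∈ U) (h0 : x ≠ 0) :
    U = ⊤ := by
  refine (h.inv U hU).resolve_left ?_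
  rintro rfl
  exact h0 hx

theorem Sim.schur [IsAlgClosed K] {M : Type*} [AddCommGroup M] [Module K M] [FiniteDimensional K M]
    {σ : Representation K G M} (h : Sim σ) (f : End K M) (hf : ∀ g v, f (σ g v) = σ g (f v)) :
    ∃ c : K, ∀ v, f v = c • v := by
  have := h.nt
  obtain ⟨c, hc⟩ := End.exists_eigenvalue f
  obtain ⟨x, hx, h0⟩ := hc.exists_hasEigenvector
  have ht : f.eigenspace c = ⊤ := by
    refine h.top (fun g v hv => ?_) hx h0
    rw [End.mem_eigenspace_iff] at hv ⊢
    rw [hf, hv, map_smul]
  exact ⟨c, fun v => End.mem_eigenspace_iff.mp (ht ▸ Submodule.mem_top)⟩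

/-- Rank inequalities reduce to simple modules. -/
theorem of_simple {ι : Type*} [Fintype ι] (c : ℕ) (w : ι → ℕ) (a : ι → MonoidAlgebra K G)
    (hs : ∀ (M : Type v) [AddCommGroup M] [Module K M] [FiniteDimensional K M]
      (σ : Representation K G M), Sim σ →
        c * finrank K M ≤ ∑ i, w i * rk (σ.asAlgebraHom (a i)))
    (V : Type v) [AddCommGroup V] [Module K V] [FiniteDimensional K V]
    (ρ : Representation K G V) : c * finrank K V ≤ ∑ i, w i * rk (ρ.asAlgebraHom (a i)) := by
  induction hn : finrank K V using Nat.strong_induction_on generalizing V with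
  | _ n ih =>
  subst hn
  by_cases h0 : finrank K V = 0
  · rw [h0]; simp
  by_cases hsim : Sim ρ
  · exact hs V ρ hsim
  have hnt : Nontrivial V := Module.nontrivial_of_finrank_pos (R := K) (by omega)
  obtain ⟨U, hU, h1, h2⟩ : ∃ U : Submodule K V, (∀ g, ∀ v ∈ U, ρ g v ∈ U) ∧ U ≠ ⊥ ∧ U ≠ ⊤ := by
    by_contra hne
    push Not at hne
    exact hsim ⟨hnt, fun U hU => or_iff_not_imp_left.mpr (hne U hU)⟩
  have hU' : ∀ g, U ≤ U.comap (ρ g) := fun g v hv => hU g v hv
  have d1 := U.finrank_quotient_add_finrank
  have d2 : finrank K U < finrank K V := Submodule.finrank_lt h2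
  have d3 : finrank K U ≠ 0 := by rwa [Ne, Submodule.finrank_eq_zero]
  have i1 := ih _ d2 U (ρ.subrepresentation U hU') rfl
  have i2 := ih _ (by omega) (V ⧸ U) (ρ.quotient U hU') rfl
  have key : ∀ x : MonoidAlgebra K G, rk ((ρ.subrepresentation U hU').asAlgebraHom x) +
      rk ((ρ.quotient U hU').asAlgebraHom x) ≤ rk (ρ.asAlgebraHom x) := by
    intro x
    refine rk_ge _ U _ _ (fun u => ?_) (fun y => ?_)
    · induction x using MonoidAlgebra.induction_on with
      | of g => simp [Representation.subrepresentation]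
      | add f g hf hg => simp [hf, hg]
      | smul r f hf => simp [hf]
    · induction x using MonoidAlgebra.induction_on with
      | of g => simp [Representation.quotient]
      | add f g hf hg => simp only [map_add, LinearMap.add_apply, hf, hg]
      | smul r f hf => simp only [map_smul, LinearMap.smul_apply, hf]
  calc c * finrank K V = c * finrank K U + c * finrank K (V ⧸ U) := by rw [← d1]; ring
    _ ≤ _ := Nat.add_le_add i1 i2
    _ = ∑ i, w i * (rk ((ρ.subrepresentation U hU').asAlgebraHom (a i)) +
      rk ((ρ.quotient U hU').asAlgebraHom (a i))) := by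
        rw [← Finset.sum_add_distrib]; simp only [mul_add]
    _ ≤ _ := Finset.sum_le_sum fun i _ => Nat.mul_le_mul_left _ (key _)

end Simple

end Cfsg.Lib.Hls
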