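import Cfsg.Agent.Hls.Grp
import Cfsg.Agent.QT.Cyc1
import Cfsg.Agent.Perm.FCAut
import Cfsg.Agent.Solv.Cores
import Cfsg.Agent.S3099
import Cfsg.Agent.S0205
import Cfsg.Prelude.Def_RootSubgroups

/-!
# Fixed spaces: the main theorem
-/

set_option autoImplicit false

namespace Cfsg.Lib.Hls

open Subgroup Module

universe v

section

variable {X Y : Type*} [Group X] [Group Y]

theorem cyc_map [Finite X] {r : ℕ} [Fact r.Prime] (h : ∀ P : Subgroup X, IsPGroup r P → IsCyclic P)
    {f : X →* Y} (hf : Function.Surjective f) (P : Subgroup Y) (hP : IsPGroup r P) :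
    IsCyclic P := by
  have := Finite.of_surjective f hf
  obtain ⟨S, hS⟩ := hP.exists_le_sylow
  obtain ⟨T, rfl⟩ := Sylow.mapSurjective_surjective hf r S
  have := h T T.isPGroup'
  have : IsCyclic ((T : Subgroup X).map f) :=
    isCyclic_of_surjective _ (f.subgroupMap_surjective T)
  exact isCyclic_of_le (H' := (T : Subgroup X).map f) hS

theorem mem_of_cyc [Finite X] {r : ℕ} [hr : Fact r.Prime]
    (h : ∀ P : Subgroup X, IsPGroup r P → IsCyclic P) {a b : X} (ha : a ^ r = 1) (hb : b ^ r = 1)
    (hb1 : b ≠ 1) (hab : Commute a b) : ∃ n : ℕ, b ^ n = a := by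
  let f := (zpowersHom X a).noncommCoprod (zpowersHom X b) fun _ _ => hab.zpow_zpow _ _
  have hf : ∀ x : f.range, x ^ r = 1 := by
    rintro ⟨_, ⟨i, j⟩, rfl⟩
    apply Subtype.ext
    change (a ^ i.toAdd * b ^ j.toAdd) ^ r = 1
    rw [(hab.zpow_zpow _ _).mul_pow, ← zpow_natCast, ← zpow_natCast, ← zpow_mul, ← zpow_mul,
      mul_comm i.toAdd, mul_comm j.toAdd, zpow_mul, zpow_mul, zpow_natCast, zpow_natCast, ha, hb,
      one_zpow, one_zpow, one_mul]
  have := h f.range fun x => ⟨1, by rw [pow_one, hf]⟩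
  have h1 : Nat.card f.range ≤ r := by
    rw [← IsCyclic.exponent_eq_card]
    exact Nat.le_of_dvd hr.out.pos (Monoid.exponent_dvd_of_forall_pow_eq_one hf)
  have h2 : zpowers b = f.range := by
    refine eq_of_le_of_card_ge (zpowers_le.mpr ⟨(1, Multiplicative.ofAdd 1),
      show a ^ (0 : ℤ) * b ^ (1 : ℤ) = b by simp⟩) ?_
    rwa [Nat.card_zpowers, orderOf_eq_prime hb hb1]
  exact (mem_powers_iff_mem_zpowers (x := b)).mpr (h2 ▸ ⟨(Multiplicative.ofAdd 1, 1),
    show a ^ (1 : ℤ) * b ^ (0 : ℤ) = a by simp⟩)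

theorem bot_of_odd [Finite X] (A : Subgroup X) (h : ⁅A, A⁆ = A) (ho : Odd (Nat.card A)) :
    A = ⊥ := by
  have := isPerfect_iff.mpr h
  by_contra e
  have := (nontrivial_iff_ne_bot A).mpr e
  exact Group.IsPerfect.not_isSolvable A (Cfsg.Agent.S0205.result ho)

theorem solv_of_perfect [Finite X] (B : Subgroup X) (h : ∀ A ≤ B, ⁅A, A⁆ = A → A = ⊥) :
    Group.IsSolvable B := by
  refine Group.isSolvable_iff_commutator_lt.mpr fun A hA => ?_
  refine lt_of_le_of_ne (commutator_le_self A) fun e => hA ?_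
  rw [← map_eq_bot_iff_of_injective _ (subtype_injective B)]
  exact h _ (map_subtype_le A) (by rw [← map_commutator, e])

end

variable {K : Type*} [Field K] [IsAlgClosed K] {X : Type*} [Group X] [Finite X]
  {V : Type v} [AddCommGroup V] [Module K V] [FiniteDimensional K V] {ρ : Representation K X V}

omit [IsAlgClosed K] in
theorem ne_of_bad (hG : ¬ Good ρ) {r : ℕ} (hr : r.Prime) (h6 : r ≤ 6) (hd : r ∣ Nat.card X) :
    (r : K) ≠ 0 := by
  intro e
  have := Fact.mk hr
  have : CharP K r := (CharP.charP_iff_prime_eq_zero hr).mpr e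
  obtain ⟨g, hg⟩ := exists_prime_orderOf_dvd_card' r hd
  refine hG ⟨g, fun e => hr.one_lt.ne ?_, (char_le ρ (hg ▸ pow_orderOf_eq_one g)).trans ?_⟩
  · rw [← hg, e, orderOf_one]
  · gcongr

omit [IsAlgClosed K] [Finite X] in
theorem uq_of_bad (hG : ¬ Good ρ) (a b : X) (h1 : a * a = 1) (h2 : a ≠ 1) (h3 : b * b = 1)
    (h4 : b ≠ 1) : a = b := by
  by_contra e
  have h5 : a * b ≠ 1 := fun e' => e (mul_left_cancel (h1.trans e'.symm))
  have := invol_le ρ h1 h3
  have i1 := not_le.mp fun h => hG ⟨_, h2, h⟩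
  have i2 := not_le.mp fun h => hG ⟨_, h4, h⟩
  have i3 := not_le.mp fun h => hG ⟨_, h5, h⟩
  omega

theorem rank_of_bad (hG : ¬ Good ρ) {r : ℕ} (hr : r.Prime) (h5 : r ≤ 5) : PRankLE r 1 X := by
  intro A hA hr1
  have := Fact.mk hr
  rw [pow_one]
  rcases A.bot_or_exists_ne_one with rfl | ⟨b, hb, hb1⟩
  · rw [card_bot]; exact hr.one_lt.le
  have ob := orderOf_eq_prime (hr1 b hb) hb1
  have hK := ne_of_bad hG hr (by omega) (ob ▸ orderOf_dvd_natCard b)
  rw [← ob, ← Nat.card_zpowers]
  refine card_le_of_le fun a ha => ?_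
  by_contra e
  have h1 := elemAb_le hr hK (hr1 a ha) (hr1 b hb)
    (congrArg Subtype.val (hA.is_comm.comm ⟨a, ha⟩ ⟨b, hb⟩)) ρ
  have i1 := not_le.mp fun h => hG ⟨_, hb1, h⟩
  have i2 : ∑ i ∈ Finset.range r, (6 * nl (ρ (a * b ^ i) - 1) + 1) ≤
      (Finset.range r).card • finrank K V := by
    refine Finset.sum_le_card_nsmul _ _ _ fun i _ => not_le.mp fun h => hG ⟨_, fun e' => e ?_, h⟩
    rw [eq_inv_of_mul_eq_one_left e']
    exact inv_mem (pow_mem (mem_zpowers b) i)
  rw [Finset.sum_add_distrib, ← Finset.mul_sum, Finset.card_range, smul_eq_mul] at i2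
  have i3 : r * finrank K V ≤ 5 * finrank K V := by gcongr
  omega

theorem perfect_case (hG : ¬ Good ρ) (hP : Group.IsPerfect X) (h2 : Even (Nat.card X)) :
    Nonempty (X ⧸ oddCore X ≃* Perm.SL25) := by
  have cyc : ∀ r : ℕ, [Fact r.Prime] → r ≠ 2 → r ≤ 5 →
      ∀ P : Subgroup X, IsPGroup r P → IsCyclic P := fun r hr h2 h5 P hP =>
    QT.isCyclic_of_rank h2 (rank_of_bad hG hr.out h5) hP
  have := Fact.mk Nat.prime_three
  rcases Cfsg.Agent.S3099.result hP (rank_of_bad hG Nat.prime_two (by norm_num)) h2 with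
    ⟨F, _, _, hF1, hF2, ⟨e⟩⟩ | ⟨-, ⟨e⟩, -⟩
  · obtain ⟨p, hp⟩ := CharP.exists F
    obtain ⟨n, hp1, hn⟩ := FiniteField.card F p
    have := Fact.mk hp1
    let π := e.toMonoidHom.comp (QuotientGroup.mk' (oddCore X))
    have hπ : Function.Surjective π := e.surjective.comp (QuotientGroup.mk'_surjective _)
    have p2 : p ≠ 2 := by
      rintro rfl
      rw [hn] at hF1
      exact absurd ((Nat.odd_pow_iff n.ne_zero).mp hF1) (by decide)
    let c := ZMod.castHom (dvd_refl p) F
    by_cases h5 : p ≤ 5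
    · have hs : Function.Surjective c := fun x => by
        have hu : ∀ y : F, uu y ^ p = 1 := fun y => by
          rw [uu_pow, CharP.cast_eq_zero, zero_mul, uu_zero]
        obtain ⟨m, hm⟩ := mem_of_cyc (cyc_map (cyc p p2 h5) hπ) (hu x) (hu 1)
          (fun e => one_ne_zero (uu_inj (e.trans uu_zero.symm)))
          (by rw [Commute, SemiconjBy, ← uu_add, ← uu_add, add_comm])
        rw [uu_pow, mul_one] at hm
        exact ⟨m, by rw [map_natCast, uu_inj hm]⟩
      have h1 := Fintype.card_le_of_surjective c hs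
      rw [ZMod.card] at h1
      obtain rfl : p = 5 := by
        by_contra h
        obtain rfl : p = 4 := by omega
        exact absurd hp1 (by decide)
      let ε := RingEquiv.ofBijective c ⟨c.injective, hs⟩
      refine ⟨e.trans (MonoidHom.toMulEquiv (Matrix.SpecialLinearGroup.map ε.symm.toRingHom)
        (Matrix.SpecialLinearGroup.map ε.toRingHom) ?_ ?_)⟩
      · ext g i j; simp
      · ext g i j; simp
    exfalso
    have h7 : 7 ≤ p := by
      by_contra h
      obtain rfl : p = 6 := by omega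
      exact absurd hp1 (by decide)
    let φ : SLp p →* Matrix.SpecialLinearGroup (Fin 2) F := Matrix.SpecialLinearGroup.map c
    have hφ : Function.Injective φ := fun a b h => by
      ext i j
      exact c.injective (congrArg (fun x : Matrix.SpecialLinearGroup (Fin 2) F => x i j) h)
    let θ := (MonoidHom.ofInjective hφ).symm.toMonoidHom.comp (π.subgroupComap φ.range)
    have hθ : Function.Surjective θ :=
      (MonoidHom.ofInjective hφ).symm.surjective.comp (π.subgroupComap_surjective_of_surjective _ hπ)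
    have hG' : ¬ Good (ρ.comp (φ.range.comap π).subtype) := fun h =>
      hG (h.of_comp (subtype_injective _))
    refine hG' (good_min hθ h7 ?_ (uq_of_bad hG')
      (fun P hP => QT.isCyclic_of_rank (by norm_num) (rank_of_bad hG' Nat.prime_three
        (by norm_num)) hP) (ne_of_bad hG' Nat.prime_three (by norm_num) ?_) _)
    · refine (Solv.coprime_card_pPrimeCore 2 X).coprime_dvd_left ?_
      rw [← card_map_of_injective (subtype_injective _)]
      refine card_dvd_of_le ?_
      rintro _ ⟨x, hx, rfl⟩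
      have h1 := congrArg Subtype.val
        ((MonoidHom.ofInjective hφ).symm.map_eq_one_iff.mp hx)
      exact (QuotientGroup.eq_one_iff _).mp (e.map_eq_one_iff.mp h1)
    · rw [← orderOf_eq_prime (x := (hh : SLp p)) hh_pow hh_ne]
      exact (_root_.orderOf_dvd_natCard _).trans (card_dvd_of_surjective θ hθ)
  exfalso
  have hπ : Function.Surjective ((e.toMonoidHom.comp (QuotientGroup.mk' _)).comp
      (QuotientGroup.mk' (oddCore X))) :=
    (e.surjective.comp (QuotientGroup.mk'_surjective _)).comp (QuotientGroup.mk'_surjective _)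
  let a : alternatingGroup (Fin 7) := ⟨Equiv.swap 0 1 * Equiv.swap 1 2, by
    simp [Equiv.Perm.mem_alternatingGroup]⟩
  let b : alternatingGroup (Fin 7) := ⟨Equiv.swap 3 4 * Equiv.swap 4 5, by
    simp [Equiv.Perm.mem_alternatingGroup]⟩
  obtain ⟨m, hm⟩ := mem_of_cyc (cyc_map (cyc 3 (by norm_num) (by norm_num)) hπ) (a := a) (b := b)
    (Subtype.ext (by decide)) (Subtype.ext (by decide)) (by decide) (Subtype.ext (by decide))
  have h1 : (b.1 ^ m) 0 = 0 := Equiv.Perm.pow_apply_eq_self_of_apply_eq_self (by decide) m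
  rw [← coe_pow, hm] at h1
  exact absurd h1 (by decide)

theorem main (hR : 120 < (solvableRadical X).index) (ρ : Representation K X V) : Good ρ := by
  by_contra hG
  have key : ∀ D : Subgroup X, D.Normal → Group.IsSolvable D → 120 < D.index := fun D h1 h2 =>
    hR.trans_le (index_antitone (le_sSup ⟨h1, h2⟩))
  obtain ⟨_, ⟨n, rfl⟩, hn⟩ := WellFounded.has_min wellFounded_lt (Set.range (derivedSeries X))
    ⟨_, 0, rfl⟩
  have h1 : ⁅derivedSeries X n, derivedSeries X n⁆ = derivedSeries X n :=
    (commutator_le_self _).eq_of_not_lt (hn _ ⟨n + 1, rfl⟩)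
  have h2 : ∀ A : Subgroup X, ⁅A, A⁆ = A → A ≤ derivedSeries X n := fun A hA => by
    clear h1 hn
    induction n with
    | zero => exact le_top
    | succ n ih => rw [← hA]; exact commutator_mono ih ih
  have := derivedSeries_normal X n
  generalize derivedSeries X n = Y at h1 h2 this
  have h3 : Even (Nat.card Y) := by
    rw [← Nat.not_odd_iff_even]
    intro ho
    have := key ⊤ inferInstance (solv_of_perfect _ fun A _ hA =>
      le_bot_iff.mp (bot_of_odd Y h1 ho ▸ h2 A hA))
    simp at this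
  obtain ⟨e⟩ := perfect_case (ρ := ρ.comp Y.subtype) (fun h => hG (h.of_comp (subtype_injective _)))
    (isPerfect_iff.mpr h1) h3
  let O := (oddCore Y).map Y.subtype
  have hO : Odd (Nat.card O) := by
    rw [card_map_of_injective (subtype_injective _)]; exact Solv.odd_card_oddCore Y
  let q := QuotientGroup.mk' O
  have hq : Function.Surjective q := QuotientGroup.mk'_surjective O
  have hN : (q.comp Y.subtype).range.Normal := by
    rw [MonoidHom.range_comp, range_subtype]; exact this.map q hq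
  have hk : (q.comp Y.subtype).ker = oddCore Y := by
    rw [← MonoidHom.comap_ker, QuotientGroup.ker_mk', comap_map_eq_self_of_injective
      (subtype_injective _)]
  have h4 := Perm.index_centralizer_SL25 (q.comp Y.subtype).range
    ((QuotientGroup.quotientKerEquivRange _).symm.trans
      ((QuotientGroup.quotientMulEquivOfEq hk).trans e))
  have h5 := key ((centralizer ((q.comp Y.subtype).range : Set (X ⧸ O))).comap q) inferInstance
    (solv_of_perfect _ fun A hA1 hA => bot_of_odd A hA (hO.of_dvd_nat (card_dvd_of_le ?_)))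
  · rw [index_comap_of_surjective _ hq] at h5
    omega
  rw [← hA, commutator_le]
  intro a ha b hb
  rw [← QuotientGroup.eq_one_iff, ← QuotientGroup.mk'_apply, map_commutatorElement,
    commutatorElement_eq_one_iff_mul_comm]
  exact mem_centralizer_iff.mp (hA1 hb) _ ⟨⟨a, h2 A hA ha⟩, rfl⟩

end Cfsg.Lib.Hls
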